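import Groth.Agent.Lib.SmDim19.CotangentScheme
import Groth.Agent.Lib.SmDim19.Basic
import Groth.Agent.Lib.SmDim19.RelDimVariety
import Groth.Agent.Lib.VarDim.Scheme

/-!
# Dimensions of smooth schemes over a field
-/

set_option autoImplicit false
set_option linter.style.haveILetI false
set_option backward.isDefEq.respectTransparency false
set_option backward.isDefEq.respectTransparency.types false
universe u

open CategoryTheory AlgebraicGeometry TopologicalSpace

namespace Groth.Agent.Kleiman14

variable {k : Type u} [Field k] {X : Scheme.{u}}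

/-- A non-empty scheme smooth of relative dimension `n` over a field has dimension `n`. -/
theorem dim_eq (f : X ⟶ Spec (CommRingCat.of k)) (n : ℕ) [SmoothOfRelativeDimension n f] [Nonempty X] :
    topologicalKrullDim ↥X = n := by
  haveI : Smooth f := SmoothOfRelativeDimension.smooth n f
  haveI : JacobsonSpace X := LocallyOfFiniteType.jacobsonSpace f
  have hcl : ∀ z : X, IsClosed ({z} : Set X) → (Order.coheight z : WithBot ℕ∞) = n := fun z hz => by
    rw [← ringKrullDim_stalk_eq_coheight]
    exact SmDim19.ringKrullDim_stalk_of_isClosed f n hz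
  rw [VarDim.scheme_dim_eq_iSup_height, ← Order.krullDim_eq_iSup_height, Order.krullDim_eq_iSup_coheight]
  refine le_antisymm (iSup_le fun z => ?_) ?_
  · obtain ⟨w, hw, hwc⟩ := nonempty_inter_closedPoints (Z := closure ({z} : Set X)) ⟨z, subset_closure rfl⟩
      isClosed_closure.isLocallyClosed
    rw [← hcl w hwc]
    exact WithBot.coe_le_coe.2 (Order.coheight_anti (VarDim.le_iff_specializes'.2 (specializes_iff_mem_closure.2 hw)))
  · obtain ⟨w, -, hwc⟩ := nonempty_inter_closedPoints (Z := (Set.univ : Set X)) Set.univ_nonempty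
      isOpen_univ.isLocallyClosed
    exact (hcl w hwc).ge.trans (le_iSup (fun a => (Order.coheight a : WithBot ℕ∞)) w)

/-- A smooth morphism into a smooth irreducible scheme, from a scheme smooth of constant relative dimension. -/
theorem exists_relDim {Y : Scheme.{u}} (q : Y ⟶ Spec (CommRingCat.of k))
    (f : X ⟶ Y) [Smooth f] [Smooth q] [IrreducibleSpace Y] {dY D : ℕ} (hY : topologicalKrullDim ↥Y = dY)
    [SmoothOfRelativeDimension D (f ≫ q)] [Nonempty X] :
    dY ≤ D ∧ SmoothOfRelativeDimension (D - dY) f := by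
  haveI := SmDim19.smoothOfRelativeDimension_of_smooth q dY hY
  haveI : JacobsonSpace X := LocallyOfFiniteType.jacobsonSpace (f ≫ q)
  have key : ∀ x : X, dY ≤ D ∧ ∃ (U : Y.Opens) (_ : IsAffineOpen U) (V : X.Opens) (_ : IsAffineOpen V)
      (_ : x ∈ V) (e : V ≤ f ⁻¹ᵁ U),
      RingHom.IsStandardSmoothOfRelativeDimension (D - dY) (f.appLE U V e).hom := by
    intro x
    obtain ⟨U, hU, V, hV, hxV, e, hs⟩ := Smooth.exists_isStandardSmooth f x
    letI := (f.appLE U V e).hom.toAlgebra
    haveI : Algebra.IsStandardSmooth Γ(Y, U) Γ(X, V) := hs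
    obtain ⟨ι, σ, _, _, ⟨P⟩⟩ := (inferInstance : Algebra.IsStandardSmooth Γ(Y, U) Γ(X, V)).out
    haveI hn : Algebra.IsStandardSmoothOfRelativeDimension P.dimension Γ(Y, U) Γ(X, V) :=
      ⟨ι, σ, inferInstance, inferInstance, P, rfl⟩
    haveI : SmoothOfRelativeDimension P.dimension (V.ι ≫ f) := by
      haveI : IsAffine V.toScheme := hV
      refine ⟨fun y => ⟨U, hU, ⊤, isAffineOpen_top _, trivial, fun y' _ => e y'.2, ?_⟩⟩
      have e' : (V.ι ≫ f).appLE U ⊤ (fun y' _ => e y'.2) = f.appLE U V e ≫ V.topIso.inv := by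
        simp [Scheme.Hom.appLE, Scheme.Opens.topIso]
        congr 1
        exact ((X.presheaf.map_comp _ _).symm).trans
          ((congrArg X.presheaf.map (Subsingleton.elim _ _)).trans (X.presheaf.map_comp _ _))
      rw [e', CommRingCat.hom_comp]
      exact RingHom.isStandardSmoothOfRelativeDimension_respectsIso.left _ V.topIso.symm.commRingCatIsoToRingEquiv
        ((RingHom.isStandardSmoothOfRelativeDimension_algebraMap P.dimension).2 hn)
    obtain ⟨z, hzV, hz⟩ := nonempty_inter_closedPoints (X := X) ⟨x, hxV⟩ V.2.isLocallyClosed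
    have hz' : IsClosed ({(⟨z, hzV⟩ : V.toScheme)} : Set V.toScheme) := by
      convert hz.preimage V.ι.continuous using 1
      ext y
      exact ⟨fun h => congrArg Subtype.val h, fun h => Subtype.ext h⟩
    have h1 := SmDim19.ringKrullDim_stalk_of_isClosed ((V.ι ≫ f) ≫ q) (P.dimension + dY) hz'
    rw [ringKrullDim_eq_of_ringEquiv (V.stalkIso ⟨z, hzV⟩).commRingCatIsoToRingEquiv,
      SmDim19.ringKrullDim_stalk_of_isClosed (f ≫ q) D hz] at h1
    have h2 : D = P.dimension + dY := by exact_mod_cast h1
    refine ⟨by omega, U, hU, V, hV, hxV, e, ?_⟩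
    rw [show D - dY = P.dimension by omega]
    exact (RingHom.isStandardSmoothOfRelativeDimension_algebraMap P.dimension).2 hn
  exact ⟨(key (Classical.arbitrary X)).1, ⟨fun x => (key x).2⟩⟩

end Groth.Agent.Kleiman14
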