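import Groth.Agent.Lib.Kleiman14.Dim
import Groth.Agent.Lib.Sumihiro14.Open
import Groth.Agent.Lib.GenSmooth18.Perfect
import Groth.Agent.Lib.GenSmooth18.Scheme
import Groth.Agent.Lib.CubeField.Simple
import Groth.Agent.Lib.SmoothReg17.Basic
import Groth.Agent.Lib.Unibr4.GoDown
import Groth.Agent.Lib.VarDim.Irred
import Groth.Agent.Lib.AlgGrpBasic19.Basic
import Mathlib.AlgebraicGeometry.Group.Smooth

/-!
# Kleiman's transversality theorem in characteristic zero
-/

set_option autoImplicit false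
set_option linter.style.haveILetI false
set_option linter.unusedSectionVars false
set_option backward.isDefEq.respectTransparency false
set_option backward.isDefEq.respectTransparency.types false
universe u

open CategoryTheory CategoryTheory.Limits MonoidalCategory CartesianMonoidalCategory MonObj AlgebraicGeometry
open TopologicalSpace Topology

noncomputable section

namespace Groth.Agent.Kleiman14

open OrbitTop19 (tr)

variable {k : Type u} [Field k] {G X Y : Over (Spec (CommRingCat.of k))}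

/-- Slices at rational points are base changes of the points. -/
theorem isPullback_slice (t : 𝟙_ (Over (Spec (CommRingCat.of k))) ⟶ G) :
    IsPullback (lift (toUnit Y ≫ t) (𝟙 Y)).left Y.hom (fst G Y).left t.left := by
  have hg : t.left ≫ G.hom = 𝟙 (Spec (CommRingCat.of k)) := Over.w t
  refine IsPullback.of_right ?_ ?_ (IsPullback.of_hasPullback G.hom Y.hom).flip
  · have h1 : (lift (toUnit Y ≫ t) (𝟙 Y)).left ≫ pullback.snd G.hom Y.hom = 𝟙 Y.left :=
      congrArg CommaMorphism.left (lift_snd (toUnit Y ≫ t) (𝟙 Y))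
    rw [h1, hg]
    exact IsPullback.of_horiz_isIso ⟨by rw [Category.comp_id]; exact Category.id_comp _⟩
  · rw [← Over.comp_left, lift_fst, Over.comp_left, Over.toUnit_left]

variable [GrpObj G]

/-- Left translation on the product. -/
def trans (p : 𝟙_ (Over (Spec (CommRingCat.of k))) ⟶ G) (Y : Over (Spec (CommRingCat.of k))) : G ⊗ Y ≅ G ⊗ Y where
  hom := lift ((toUnit _ ≫ p) * fst G Y) (snd G Y)
  inv := lift ((toUnit _ ≫ p⁻¹) * fst G Y) (snd G Y)
  hom_inv_id := by
    refine CartesianMonoidalCategory.hom_ext _ _ ?_ ?_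
    · rw [Category.assoc, lift_fst, MonObj.comp_mul, lift_fst, ← Category.assoc, comp_toUnit, GrpObj.comp_inv,
        Category.id_comp, inv_mul_cancel_left]
    · rw [Category.assoc, lift_snd, lift_snd, Category.id_comp]
  inv_hom_id := by
    refine CartesianMonoidalCategory.hom_ext _ _ ?_ ?_
    · rw [Category.assoc, lift_fst, MonObj.comp_mul, lift_fst, ← Category.assoc, comp_toUnit, GrpObj.comp_inv,
        Category.id_comp, mul_inv_cancel_left]
    · rw [Category.assoc, lift_snd, lift_snd, Category.id_comp]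

theorem trans_comp (a : AlgGrp.Action G X) (f : Y ⟶ X) (p : 𝟙_ (Over (Spec (CommRingCat.of k))) ⟶ G) :
    (trans p Y).hom ≫ (G ◁ f) ≫ a.act = ((G ◁ f) ≫ a.act) ≫ tr a p := by
  rw [OrbitTop19.comp_tr, trans, lift_whiskerLeft_assoc, AlgGrpBasic19.act_mul]
  congr 2

variable [IsAlgClosed k] [LocallyOfFiniteType G.hom] [LocallyOfFiniteType X.hom]

theorem isIso_tr (a : AlgGrp.Action G X) (p : 𝟙_ (Over (Spec (CommRingCat.of k))) ⟶ G) : IsIso (tr a p).left :=
  inferInstanceAs (IsIso ((Over.forget _).mapIso (OrbitTop19.trIso a p)).hom)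

/-- Every closed point is moved into a non-empty open set. -/
theorem exists_tr_mem (a : AlgGrp.Action G X)
    (ht : ∀ x x' : 𝟙_ (Over (Spec (CommRingCat.of k))) ⟶ X,
      ∃ σ : 𝟙_ (Over (Spec (CommRingCat.of k))) ⟶ G, lift σ x ≫ a.act = x')
    {V : X.left.Opens} (hV : (V : Set X.left).Nonempty) (x : X.left) (hx : IsClosed ({x} : Set X.left)) :
    ∃ p, (tr a p).left x ∈ V := by
  haveI : JacobsonSpace X.left := LocallyOfFiniteType.jacobsonSpace X.hom
  obtain ⟨v, hv, hvc⟩ := nonempty_inter_closedPoints hV V.isOpen.isLocallyClosed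
  obtain ⟨px, rfl⟩ := OrbitTop19.exists_point X x hx
  obtain ⟨pv, rfl⟩ := OrbitTop19.exists_point X v hvc
  obtain ⟨p, hp⟩ := ht px pv
  refine ⟨p, ?_⟩
  have h : px ≫ tr a p = pv := by
    rw [OrbitTop19.comp_tr, ← hp]
    congr 2
  rw [← Scheme.Hom.comp_apply, ← Over.comp_left, h]
  exact hv

/-- A homogeneous variety in characteristic zero is smooth. -/
theorem smooth_of_transitive [CharZero k] [IsIntegral X.left] (a : AlgGrp.Action G X)
    (ht : ∀ x x' : 𝟙_ (Over (Spec (CommRingCat.of k))) ⟶ X,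
      ∃ σ : 𝟙_ (Over (Spec (CommRingCat.of k))) ⟶ G, lift σ x ≫ a.act = x') : Smooth X.hom := by
  haveI : IsLocallyNoetherian (Spec (CommRingCat.of k)) := inferInstance
  haveI : LocallyOfFinitePresentation X.hom := inferInstance
  rw [← Scheme.Hom.smoothLocus_eq_top_iff]
  haveI : JacobsonSpace X.left := LocallyOfFiniteType.jacobsonSpace X.hom
  refine top_le_iff.1 (Sumihiro14.opens_le_of_closedPoints fun z hz _ => ?_)
  obtain ⟨p, hp⟩ := exists_tr_mem a ht ⟨_, X.hom.genericPoint_mem_smoothLocus_of_perfectField⟩ z hz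
  haveI := isIso_tr a p
  have h : z ∈ (tr a p).left ⁻¹ᵁ X.hom.smoothLocus := hp
  rw [Scheme.Hom.preimage_smoothLocus_eq, Sumihiro14.smoothLocus_congr (Over.w (tr a p))] at h
  exact h

/-- The translation map is smooth. -/
theorem smooth_act [CharZero k] [IsIntegral G.left] [IsIntegral X.left] [IsSeparated X.hom]
    [QuasiCompact G.hom] [Smooth Y.hom] [QuasiCompact Y.hom] (f : Y ⟶ X) (a : AlgGrp.Action G X)
    (ht : ∀ x x' : 𝟙_ (Over (Spec (CommRingCat.of k))) ⟶ X,
      ∃ σ : 𝟙_ (Over (Spec (CommRingCat.of k))) ⟶ G, lift σ x ≫ a.act = x') :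
    Smooth ((G ◁ f) ≫ a.act).left := by
  let h := ((G ◁ f) ≫ a.act).left
  haveI : IsReduced G.left := inferInstance
  haveI : Smooth G.hom := by
    haveI : GeometricallyReduced G.hom := by
      haveI := CubeField.geometricallyIntegral_of_isIntegral G.hom
      infer_instance
    letI : GrpObj (Over.mk G.hom) := ‹GrpObj G›
    exact smooth_of_grpObj G.hom
  haveI : Smooth (G ⊗ Y).hom := inferInstanceAs (Smooth (pullback.fst G.hom Y.hom ≫ G.hom))
  haveI : QuasiCompact (G ⊗ Y).hom := inferInstanceAs (QuasiCompact (pullback.fst G.hom Y.hom ≫ G.hom))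
  haveI : IsLocallyNoetherian X.left := LocallyOfFiniteType.isLocallyNoetherian X.hom
  haveI : IsLocallyNoetherian (G ⊗ Y).left := LocallyOfFiniteType.isLocallyNoetherian (G ⊗ Y).hom
  haveI : LocallyOfFiniteType (h ≫ X.hom) := by rw [Over.w]; infer_instance
  haveI : LocallyOfFiniteType h := locallyOfFiniteType_of_comp h X.hom
  haveI : QuasiCompact (h ≫ X.hom) := by rw [Over.w]; infer_instance
  haveI : QuasiCompact h := QuasiCompact.of_comp h X.hom
  haveI : LocallyOfFinitePresentation h := VarDim.locallyOfFinitePresentation_of_locallyNoetherian _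
  haveI : CharZero X.left.functionField := GenSmooth18.charZero_functionField X.hom
  haveI : PerfectField X.left.functionField := PerfectField.ofCharZero
  obtain ⟨V, hV, hsm⟩ := GenSmooth18.exists_smooth_preimage_of_perfect h
    (fun x => SmoothReg17.isRegularLocalRing_stalk (G ⊗ Y).hom x)
  haveI := hsm
  have hle : h ⁻¹ᵁ V ≤ h.smoothLocus := fun z hz => by
    have h1 : (h ∣_ V).smoothLocus = ⊤ := Scheme.Hom.smoothLocus_eq_top_iff.2 hsm
    have h2 : (⟨z, hz⟩ : (h ⁻¹ᵁ V).toScheme) ∈ ((h ∣_ V) ≫ V.ι).smoothLocus :=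
      (Descend.mem_smoothLocus_comp_iff _ V.ι _).2 (h1.ge trivial)
    simp only [morphismRestrict_ι] at h2
    rw [← Scheme.Hom.preimage_smoothLocus_eq] at h2
    exact h2
  rw [← Scheme.Hom.smoothLocus_eq_top_iff]
  haveI : JacobsonSpace (G ⊗ Y).left := LocallyOfFiniteType.jacobsonSpace (G ⊗ Y).hom
  refine top_le_iff.1 (Sumihiro14.opens_le_of_closedPoints fun z hz _ => ?_)
  obtain ⟨p, hp⟩ := exists_tr_mem a ht hV (h z) (VarDim.isClosed_singleton_image X.hom h hz)
  haveI := isIso_tr a p
  let L := (trans p Y).hom.left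
  haveI : IsIso L := inferInstanceAs (IsIso ((Over.forget _).mapIso (trans p Y)).hom)
  have hLh : L ≫ h = h ≫ (tr a p).left := congrArg CommaMorphism.left (trans_comp a f p)
  have h3 : L z ∈ h ⁻¹ᵁ V := by
    show h (L z) ∈ V
    rw [← Scheme.Hom.comp_apply, hLh, Scheme.Hom.comp_apply]
    exact hp
  have h4 : z ∈ L ⁻¹ᵁ h.smoothLocus := hle h3
  rw [Scheme.Hom.preimage_smoothLocus_eq] at h4
  simp only [hLh] at h4
  exact (Descend.mem_smoothLocus_comp_iff h (tr a p).left z).1 h4

theorem kleiman [CharZero k] [IsIntegral G.left] [IsSeparated G.hom] [QuasiCompact G.hom] [IsIntegral X.left]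
    [IsSeparated X.hom] [QuasiCompact X.hom] (a : AlgGrp.Action G X)
    (ht : ∀ x x' : 𝟙_ (Over (Spec (CommRingCat.of k))) ⟶ X,
      ∃ σ : 𝟙_ (Over (Spec (CommRingCat.of k))) ⟶ G, lift σ x ≫ a.act = x')
    [IsIntegral Y.left] [Smooth Y.hom] [QuasiCompact Y.hom] (f : Y ⟶ X)
    {Z : Over (Spec (CommRingCat.of k))} [IsIntegral Z.left] [Smooth Z.hom] [QuasiCompact Z.hom] (g : Z ⟶ X)
    (n r s : ℕ) (hn : topologicalKrullDim ↥X.left = n) (hr : topologicalKrullDim ↥Y.left = r)
    (hs : topologicalKrullDim ↥Z.left = s) :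
    ∃ V : G.left.Opens, (V : Set ↥G.left).Nonempty ∧
      ∀ σ : 𝟙_ (Over (Spec (CommRingCat.of k))) ⟶ G, Set.range σ.left.base ⊆ (V : Set ↥G.left) →
        ∀ fσ : Y.left ⟶ X.left, fσ = (lift (toUnit Y ≫ σ) f ≫ a.act).left →
          Smooth (pullback.fst fσ g.left ≫ Y.hom) ∧
            (IsEmpty ↥(pullback fσ g.left) ∨ (n ≤ r + s ∧
              topologicalKrullDim ↥(pullback fσ g.left) = ((r + s - n : ℕ) : WithBot ℕ∞))) := by
  haveI := CubeField.geometricallyIntegral_of_isIntegral Y.hom
  haveI := CubeField.geometricallyIntegral_of_isIntegral G.hom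
  haveI : Smooth G.hom := by
    haveI : GeometricallyReduced G.hom := inferInstance
    letI : GrpObj (Over.mk G.hom) := ‹GrpObj G›
    exact smooth_of_grpObj G.hom
  haveI : Smooth X.hom := smooth_of_transitive a ht
  obtain ⟨dG, hdG⟩ : ∃ dG : ℕ, topologicalKrullDim ↥G.left = dG := ⟨_, VarDim.dim_eq_sdim_genericPoint G.hom⟩
  haveI := SmDim19.smoothOfRelativeDimension_of_smooth G.hom dG hdG
  haveI := SmDim19.smoothOfRelativeDimension_of_smooth Y.hom r hr
  haveI := SmDim19.smoothOfRelativeDimension_of_smooth Z.hom s hs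
  haveI : SmoothOfRelativeDimension r (pullback.fst G.hom Y.hom) :=
    (smoothOfRelativeDimension_isStableUnderBaseChange (n := r)).of_isPullback
      (IsPullback.of_hasPullback G.hom Y.hom).flip ‹_›
  let h := ((G ◁ f) ≫ a.act).left
  haveI : Smooth h := smooth_act f a ht
  haveI : SmoothOfRelativeDimension (r + dG) (h ≫ X.hom) := by
    rw [Over.w]
    exact inferInstanceAs (SmoothOfRelativeDimension (r + dG) (pullback.fst G.hom Y.hom ≫ G.hom))
  haveI : Nonempty (G ⊗ Y).left := by
    obtain ⟨z, -⟩ := Scheme.Pullback.exists_preimage_pullback (f := G.hom) (g := Y.hom) (genericPoint G.left)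
      (genericPoint Y.left) (@Subsingleton.elim _ (inferInstanceAs (Subsingleton (PrimeSpectrum k))) _ _)
    exact ⟨z⟩
  obtain ⟨hle, hh⟩ := exists_relDim (D := r + dG) X.hom h hn
  haveI := hh
  -- the incidence
  let W := pullback h g.left
  let e := r + dG - n
  haveI : SmoothOfRelativeDimension e (pullback.snd h g.left) :=
    (smoothOfRelativeDimension_isStableUnderBaseChange (n := e)).of_isPullback (IsPullback.of_hasPullback h g.left) hh
  let wk : W ⟶ Spec (CommRingCat.of k) := pullback.snd h g.left ≫ Z.hom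
  haveI : SmoothOfRelativeDimension (e + s) wk := inferInstanceAs (SmoothOfRelativeDimension (e + s) (_ ≫ _))
  haveI : Smooth wk := SmoothOfRelativeDimension.smooth (e + s) wk
  let q : W ⟶ G.left := pullback.fst h g.left ≫ (fst G Y).left
  have hq : q ≫ G.hom = wk := by
    show (_ ≫ _) ≫ _ = _ ≫ _
    rw [Category.assoc, Over.w, show (G ⊗ Y).hom = h ≫ X.hom from (Over.w _).symm, ← Category.assoc,
      pullback.condition, Category.assoc, Over.w]
  haveI : LocallyOfFiniteType (q ≫ G.hom) := by rw [hq]; infer_instance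
  haveI : LocallyOfFiniteType q := locallyOfFiniteType_of_comp q G.hom
  haveI : IsLocallyNoetherian G.left := LocallyOfFiniteType.isLocallyNoetherian G.hom
  haveI : IsLocallyNoetherian W := LocallyOfFiniteType.isLocallyNoetherian wk
  haveI : LocallyOfFinitePresentation q := VarDim.locallyOfFinitePresentation_of_locallyNoetherian _
  haveI : QuasiCompact wk := by
    haveI : QuasiCompact (h ≫ X.hom) := by
      rw [Over.w]; exact inferInstanceAs (QuasiCompact (pullback.fst G.hom Y.hom ≫ G.hom))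
    haveI : QuasiCompact h := QuasiCompact.of_comp h X.hom
    exact inferInstanceAs (QuasiCompact (pullback.snd h g.left ≫ Z.hom))
  haveI : QuasiCompact (q ≫ G.hom) := by rw [hq]; infer_instance
  haveI : QuasiCompact q := QuasiCompact.of_comp q G.hom
  haveI : CharZero G.left.functionField := GenSmooth18.charZero_functionField G.hom
  haveI : PerfectField G.left.functionField := PerfectField.ofCharZero
  obtain ⟨V, hV, hsm⟩ := GenSmooth18.exists_smooth_preimage_of_perfect q
    (fun x => SmoothReg17.isRegularLocalRing_stalk wk x)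
  haveI := hsm
  refine ⟨V, hV, fun σ hσ fσ hfσ => ?_⟩
  let sl : Y.left ⟶ (G ⊗ Y).left := (lift (toUnit Y ≫ σ) (𝟙 Y)).left
  have hfσ' : fσ = sl ≫ h := by
    rw [hfσ, ← Over.comp_left, lift_whiskerLeft_assoc, Category.id_comp]
  subst hfσ'
  -- the fibre of `W → G` over the point
  let σV : Spec (CommRingCat.of k) ⟶ (V : Scheme.{u}) :=
    IsOpenImmersion.lift V.ι σ.left (by erw [Scheme.Opens.range_ι]; exact hσ)
  have hσV : σV ≫ V.ι = σ.left := IsOpenImmersion.lift_fac _ _ _
  let F := pullback (sl ≫ h) g.left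
  let ia : F ⟶ W := pullback.lift (pullback.fst (sl ≫ h) g.left ≫ sl) (pullback.snd (sl ≫ h) g.left)
    (by rw [Category.assoc]; exact pullback.condition)
  have sq₁ : IsPullback ia (pullback.fst (sl ≫ h) g.left) (pullback.fst h g.left) sl :=
    IsPullback.of_right (h₁₂ := pullback.snd h g.left) (v₁₃ := g.left) (h₂₂ := h)
      (by rw [pullback.lift_snd]; exact (IsPullback.of_hasPullback (sl ≫ h) g.left).flip)
      (pullback.lift_fst _ _ _) (IsPullback.of_hasPullback h g.left).flip
  have sq : IsPullback ia (pullback.fst (sl ≫ h) g.left ≫ Y.hom) q σ.left := sq₁.paste_vert (isPullback_slice σ)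
  have hrange : Set.range ia ⊆ Set.range (q ⁻¹ᵁ V).ι := by
    rw [Scheme.Opens.range_ι]
    rintro _ ⟨x, rfl⟩
    show q (ia x) ∈ V
    rw [← Scheme.Hom.comp_apply, sq.w, Scheme.Hom.comp_apply]
    exact hσ ⟨_, rfl⟩
  let ι' : F ⟶ (q ⁻¹ᵁ V : Scheme.{u}) := IsOpenImmersion.lift (q ⁻¹ᵁ V).ι ia hrange
  have sqV : IsPullback ι' (pullback.fst (sl ≫ h) g.left ≫ Y.hom) (q ∣_ V) σV := by
    refine IsPullback.of_right (h₁₂ := (q ⁻¹ᵁ V).ι) (v₁₃ := q) (h₂₂ := V.ι) ?_ ?_
      (isPullback_morphismRestrict q V).flip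
    · rw [IsOpenImmersion.lift_fac, hσV]; exact sq
    · rw [← cancel_mono V.ι, Category.assoc, morphismRestrict_ι, IsOpenImmersion.lift_fac_assoc, sq.w]
      simp only [Category.assoc, hσV]
  refine ⟨MorphismProperty.of_isPullback (P := @Smooth) sqV hsm, ?_⟩
  rcases isEmpty_or_nonempty ↥F with he | hne
  · exact Or.inl he
  haveI : Nonempty (q ⁻¹ᵁ V : Scheme.{u}) := ⟨ι' hne.some⟩
  haveI : Nonempty (V : Scheme.{u}) := ⟨⟨_, hV.choose_spec⟩⟩
  haveI : IrreducibleSpace (V : Scheme.{u}) := inferInstance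
  haveI : SmoothOfRelativeDimension dG (V.ι ≫ G.hom) := by
    have : SmoothOfRelativeDimension (0 + dG) (V.ι ≫ G.hom) := inferInstance
    rwa [Nat.zero_add] at this
  haveI : SmoothOfRelativeDimension (e + s) ((q ∣_ V) ≫ V.ι ≫ G.hom) := by
    rw [← Category.assoc, morphismRestrict_ι, Category.assoc, hq]
    have : SmoothOfRelativeDimension (0 + (e + s)) ((q ⁻¹ᵁ V).ι ≫ wk) := inferInstance
    rwa [Nat.zero_add] at this
  obtain ⟨hle', hrel⟩ := exists_relDim (D := e + s) (V.ι ≫ G.hom) (q ∣_ V) (dim_eq (V.ι ≫ G.hom) dG)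
  haveI : SmoothOfRelativeDimension (e + s - dG) (pullback.fst (sl ≫ h) g.left ≫ Y.hom) :=
    (smoothOfRelativeDimension_isStableUnderBaseChange (n := e + s - dG)).of_isPullback sqV hrel
  haveI : Nonempty (F : Scheme.{u}) := hne
  refine Or.inr ⟨by omega, ?_⟩
  rw [show r + s - n = e + s - dG by omega]
  exact dim_eq (pullback.fst (sl ≫ h) g.left ≫ Y.hom) (e + s - dG)

end Groth.Agent.Kleiman14
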